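import Cfsg.Agent.H341.ThreeList_m3
import Cfsg.Agent.Prune
set_option linter.all false
prune_inst 0x7f00000000000000000000000000000000000000000000000000000000000000000000000000000000000000000000000000000000000000000000000000000000000000000000000000000000000000003fffffffffffffffffffffffffffbeffbdffffffff
open scoped Cfsg.Agent.FastGrp

/-!
# The known simple groups whose order is divisible by 27 but not by 243 (helper344)

`kind_of_known`: extends `H341.ThreeList`.
-/

set_option autoImplicit false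

namespace Cfsg.Agent.H344.List81

open Cfsg OrdDiv Cfsg.Agent.H341.ThreeList

universe u

/-- The kinds of known simple groups of order divisible by 27 but not by 243. -/
inductive Kind (S : Type u) [Group S] : Prop
  | alt (n : ℕ) (h9 : 9 ≤ n) (h11 : n ≤ 11) (e : Nonempty (S ≃* ↥(alternatingGroup (Fin n)))) : Kind S
  | psl2 (F : Type) (_ : Field F) (_ : Fintype F) (hq : 4 ≤ Fintype.card F)
      (e : Nonempty (S ≃* Matrix.ProjectiveSpecialLinearGroup (Fin 2) F)) : Kind S
  | psl3a (F : Type) (_ : Field F) (_ : Fintype F) (hq : 9 ∣ Fintype.card F - 1)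
      (e : Nonempty (S ≃* Matrix.ProjectiveSpecialLinearGroup (Fin 3) F)) : Kind S
  | psl3b (F : Type) (_ : Field F) (_ : Fintype F) (hq : 27 ∣ Fintype.card F + 1)
      (e : Nonempty (S ≃* Matrix.ProjectiveSpecialLinearGroup (Fin 3) F)) : Kind S
  | psl3c (F : Type) (_ : Field F) (_ : Fintype F) (hq : Fintype.card F = 3)
      (e : Nonempty (S ≃* Matrix.ProjectiveSpecialLinearGroup (Fin 3) F)) : Kind S
  | psl4a (F : Type) (_ : Field F) (_ : Fintype F) (hq : Fintype.card F % 3 = 1)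
      (e : Nonempty (S ≃* Matrix.ProjectiveSpecialLinearGroup (Fin 4) F)) : Kind S
  | psl45b (F : Type) (_ : Field F) (_ : Fintype F) (n : ℕ) (hn : n = 4 ∨ n = 5) (hq : 9 ∣ Fintype.card F + 1)
      (e : Nonempty (S ≃* Matrix.ProjectiveSpecialLinearGroup (Fin n) F)) : Kind S
  | psl67 (F : Type) (_ : Field F) (_ : Fintype F) (n : ℕ) (hn : n = 6 ∨ n = 7) (hq : Fintype.card F % 3 = 2)
      (e : Nonempty (S ≃* Matrix.ProjectiveSpecialLinearGroup (Fin n) F)) : Kind S
  | psu3a (F : Type) (_ : Field F) (_ : Fintype F) (q : ℕ) (hF : Fintype.card F = q ^ 2) (hq : 9 ∣ q + 1)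
      (e : Nonempty (S ≃* PSU 3 F q)) : Kind S
  | psu3b (F : Type) (_ : Field F) (_ : Fintype F) (q : ℕ) (hF : Fintype.card F = q ^ 2) (hq : 27 ∣ q - 1)
      (e : Nonempty (S ≃* PSU 3 F q)) : Kind S
  | psu3c (F : Type) (_ : Field F) (_ : Fintype F) (hF : Fintype.card F = 3 ^ 2)
      (e : Nonempty (S ≃* PSU 3 F 3)) : Kind S
  | psu4a (F : Type) (_ : Field F) (_ : Fintype F) (q : ℕ) (hF : Fintype.card F = q ^ 2) (hq : q % 3 = 2)
      (e : Nonempty (S ≃* PSU 4 F q)) : Kind S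
  | psu45b (F : Type) (_ : Field F) (_ : Fintype F) (n q : ℕ) (hn : n = 4 ∨ n = 5) (hF : Fintype.card F = q ^ 2)
      (hq : 9 ∣ q - 1) (e : Nonempty (S ≃* PSU n F q)) : Kind S
  | psu67 (F : Type) (_ : Field F) (_ : Fintype F) (n q : ℕ) (hn : n = 6 ∨ n = 7) (hF : Fintype.card F = q ^ 2)
      (hq : q % 3 = 1) (e : Nonempty (S ≃* PSU n F q)) : Kind S
  | psp4a (F : Type) (_ : Field F) (_ : Fintype F) (hq : Fintype.card F = 3) (e : Nonempty (S ≃* PSp 2 F)) : Kind S
  | psp4b (F : Type) (_ : Field F) (_ : Fintype F) (hq : 9 ∣ Fintype.card F ^ 2 - 1)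
      (e : Nonempty (S ≃* PSp 2 F)) : Kind S
  | psp6 (F : Type) (_ : Field F) (_ : Fintype F) (hq : ¬ 3 ∣ Fintype.card F) (e : Nonempty (S ≃* PSp 3 F)) : Kind S
  | oodd (F : Type) (_ : Field F) (_ : Fintype F) (hq : ¬ 3 ∣ Fintype.card F) (ho : Odd (Fintype.card F))
      (e : Nonempty (S ≃* POmega F (quadFormOdd 3 F))) : Kind S
  | ominus (F : Type) (_ : Field F) (_ : Fintype F) (a b : F) (hq : ¬ 3 ∣ Fintype.card F)
      (hab : ∀ z₁ z₂ : F, z₁ ^ 2 + a * z₁ * z₂ + b * z₂ ^ 2 = 0 → z₁ = 0 ∧ z₂ = 0)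
      (e : Nonempty (S ≃* POmega F (quadFormMinus 3 F a b))) : Kind S
  | g2 (F : Type) (_ : Field F) (_ : Fintype F) (h3 : 3 ≤ Fintype.card F) (hq : ¬ 3 ∣ Fintype.card F)
      (h9 : ¬ 9 ∣ Fintype.card F ^ 2 - 1) (e : Nonempty (S ≃* ↥(Lie.chevG2.group F))) : Kind S
  | td4 (F : Type) (_ : Field F) (_ : Fintype F) (q : ℕ) (hq : IsPrimePow q) (hF : Fintype.card F = q ^ 3)
      (h3 : ¬ 3 ∣ q) (e : Nonempty (S ≃* ↥(Lie.twistedD4 F q))) : Kind S
  | tf4 (F : Type) (_ : Field F) (_ : Fintype F) (m : ℕ) (hm : 1 ≤ m) (hF : Fintype.card F = 2 ^ (2 * m + 1))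
      (h9 : ¬ 9 ∣ 2 ^ (2 * m + 1) + 1) (e : Nonempty (S ≃* ↥(Lie.twistedF4 F (2 ^ m)))) : Kind S
  | tits (h : Lie.IsoTits S) : Kind S
  | m12 (h : Spor.IsoM12 S) : Kind S
  | m24 (h : Spor.IsoM24 S) : Kind S
  | j2 (h : Spor.IsoJ2 S) : Kind S
  | j4 (h : Spor.IsoJ4 S) : Kind S
  | he (h : Spor.IsoHe S) : Kind S
  | ru (h : Spor.IsoRu S) : Kind S
  | on (h : Spor.IsoON S) : Kind S

/-! ### exact powers of 3 -/

/-- `3 ^ i` divides `a` exactly -/
def V (i a : ℕ) : Prop := ∃ c, a = 3 ^ i * c ∧ ¬ 3 ∣ c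

theorem V.mul {i j a b : ℕ} (ha : V i a) (hb : V j b) : V (i + j) (a * b) := by
  obtain ⟨c, rfl, hc⟩ := ha
  obtain ⟨d, rfl, hd⟩ := hb
  refine ⟨c * d, by ring, fun h => ?_⟩
  rcases (Nat.Prime.dvd_mul Nat.prime_three).1 h with h | h
  · exact hc h
  · exact hd h

theorem V.pow {a : ℕ} (ha : V 0 a) (k : ℕ) : V 0 (a ^ k) := by
  induction k with
  | zero => exact ⟨1, rfl, by norm_num⟩
  | succ k ih =>
    rw [pow_succ]
    exact V.mul ih ha

theorem V.not_dvd {i a k : ℕ} (ha : V i a) (h : i < k) : ¬ 3 ^ k ∣ a := by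
  obtain ⟨c, rfl, hc⟩ := ha
  intro hd
  apply hc
  have h1 : 3 ^ (i + 1) ∣ 3 ^ i * c := (pow_dvd_pow 3 h).trans hd
  rw [pow_succ] at h1
  exact Nat.dvd_of_mul_dvd_mul_left (by positivity) h1

theorem V.eq {i j a : ℕ} (ha : V i a) (hb : V j a) : i = j := by
  rcases lt_trichotomy i j with h | h | h
  · exfalso
    obtain ⟨c, hc, _⟩ := hb
    exact ha.not_dvd h ⟨c, hc⟩
  · exact h
  · exfalso
    obtain ⟨c, hc, _⟩ := ha
    exact hb.not_dvd h ⟨c, hc⟩

theorem V.dvd {i a : ℕ} (ha : V i a) : 3 ^ i ∣ a := by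
  obtain ⟨c, hc, _⟩ := ha
  exact ⟨c, hc⟩

theorem V0 {a : ℕ} (h : ¬ 3 ∣ a) : V 0 a := ⟨a, by simp, h⟩

theorem V1 {a : ℕ} (h : a % 9 = 3 ∨ a % 9 = 6) : V 1 a := ⟨a / 3, by omega, by omega⟩

theorem V2 {a : ℕ} (h : a % 27 = 9 ∨ a % 27 = 18) : V 2 a := ⟨a / 9, by omega, by omega⟩

/-- cancel -/
theorem V.of_mul {i j a b c : ℕ} (hd : V i a) (h : a * b = c) (hc : V j c) : ∃ k, j = i + k ∧ V k b := by
  have hb : b ≠ 0 := by
    rintro rfl
    obtain ⟨e, he, he'⟩ := hc
    rw [← h, mul_zero] at he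
    apply he'
    have : e = 0 := by
      rcases Nat.mul_eq_zero.1 he.symm with h | h
      · exact absurd h (by positivity)
      · exact h
    rw [this]
    exact dvd_zero 3
  obtain ⟨k, e, he, hbe⟩ := Nat.exists_eq_pow_mul_and_not_dvd hb 3 (by norm_num)
  have hbk : V k b := ⟨e, hbe, he⟩
  refine ⟨k, ?_, hbk⟩
  have := hd.mul hbk
  rw [h] at this
  exact hc.eq this

theorem dvd_of_mul {d c n k : ℕ} (hd : ¬ 3 ∣ d) (h : d * c = n) (hn : 3 ^ k ∣ n) : 3 ^ k ∣ c := by
  rw [← h] at hn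
  have h2 : Nat.Coprime 3 d := (Nat.Prime.coprime_iff_not_dvd Nat.prime_three).2 hd
  exact (Nat.Coprime.pow_left k h2).dvd_of_dvd_mul_left hn

theorem vsub {q k : ℕ} (hq : 1 ≤ q) {r : ℕ} (m : ℕ) (h : q ^ k % m = r) (hr : 1 ≤ r) (hm : r < m) :
    (q ^ k - 1) % m = r - 1 := by
  have h1 : 1 ≤ q ^ k := Nat.one_le_pow _ _ hq
  have h2 : q ^ k = m * (q ^ k / m) + r := by rw [← h, Nat.div_add_mod]
  have h3 : q ^ k - 1 = m * (q ^ k / m) + (r - 1) := by omega
  rw [h3, Nat.mul_add_mod, Nat.mod_eq_of_lt (by omega)]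

theorem V_sq {q : ℕ} (h : q % 9 = 2 ∨ q % 9 = 5 ∨ q % 9 = 4 ∨ q % 9 = 7) : V 1 (q ^ 2 - 1) := by
  apply V1
  rcases h with h | h | h | h
  · left; rw [vsub (by omega) 9 (r := 4) (by rw [Nat.pow_mod, h]) (by norm_num) (by norm_num)]
  · right; rw [vsub (by omega) 9 (r := 7) (by rw [Nat.pow_mod, h]) (by norm_num) (by norm_num)]
  · right; rw [vsub (by omega) 9 (r := 7) (by rw [Nat.pow_mod, h]) (by norm_num) (by norm_num)]
  · left; rw [vsub (by omega) 9 (r := 4) (by rw [Nat.pow_mod, h]) (by norm_num) (by norm_num)]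

theorem V_four {q : ℕ} (h : q % 9 = 2 ∨ q % 9 = 5 ∨ q % 9 = 4 ∨ q % 9 = 7) : V 1 (q ^ 4 - 1) := by
  apply V1
  rcases h with h | h | h | h
  · right; rw [vsub (by omega) 9 (r := 7) (by rw [Nat.pow_mod, h]) (by norm_num) (by norm_num)]
  · left; rw [vsub (by omega) 9 (r := 4) (by rw [Nat.pow_mod, h]) (by norm_num) (by norm_num)]
  · left; rw [vsub (by omega) 9 (r := 4) (by rw [Nat.pow_mod, h]) (by norm_num) (by norm_num)]
  · right; rw [vsub (by omega) 9 (r := 7) (by rw [Nat.pow_mod, h]) (by norm_num) (by norm_num)]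

theorem V_odd {q k : ℕ} (h : q % 3 = 2) (hk : Odd k) : V 0 (q ^ k - 1) := by
  apply V0
  intro h3
  have h1 : 1 ≤ q ^ k := Nat.one_le_pow _ _ (by omega)
  have h2 : q ^ k % 3 = 2 := by
    obtain ⟨m, rfl⟩ := hk
    rw [pow_add, pow_mul, Nat.mul_mod, Nat.pow_mod, show q ^ 2 % 3 = 1 by rw [Nat.pow_mod, h], one_pow, pow_one, h]
    norm_num
  omega

theorem V_odd' {q k : ℕ} (h : q % 3 = 1) : V 0 (q ^ k + 1) := by
  apply V0
  intro h3
  have h2 : q ^ k % 3 = 1 := by rw [Nat.pow_mod, h, one_pow]; rfl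
  omega

theorem V_cube {q : ℕ} (h : q % 9 = 4 ∨ q % 9 = 7) : V 2 (q ^ 3 - 1) := by
  apply V2
  have : q % 27 = 4 ∨ q % 27 = 13 ∨ q % 27 = 22 ∨ q % 27 = 7 ∨ q % 27 = 16 ∨ q % 27 = 25 := by (solve | lia | omega)
  rcases this with h | h | h | h | h | h
  · left; rw [vsub (by omega) 27 (r := 10) (by rw [Nat.pow_mod, h]) (by norm_num) (by norm_num)]
  · left; rw [vsub (by omega) 27 (r := 10) (by rw [Nat.pow_mod, h]) (by norm_num) (by norm_num)]
  · left; rw [vsub (by omega) 27 (r := 10) (by rw [Nat.pow_mod, h]) (by norm_num) (by norm_num)]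
  · right; rw [vsub (by omega) 27 (r := 19) (by rw [Nat.pow_mod, h]) (by norm_num) (by norm_num)]
  · right; rw [vsub (by omega) 27 (r := 19) (by rw [Nat.pow_mod, h]) (by norm_num) (by norm_num)]
  · right; rw [vsub (by omega) 27 (r := 19) (by rw [Nat.pow_mod, h]) (by norm_num) (by norm_num)]

theorem V_cube' {q : ℕ} (h : q % 9 = 2 ∨ q % 9 = 5) : V 2 (q ^ 3 + 1) := by
  apply V2
  have : q % 27 = 2 ∨ q % 27 = 11 ∨ q % 27 = 20 ∨ q % 27 = 5 ∨ q % 27 = 14 ∨ q % 27 = 23 := by (solve | lia | omega)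
  rcases this with h | h | h | h | h | h
  · left; rw [Nat.add_mod, Nat.pow_mod, h]
  · left; rw [Nat.add_mod, Nat.pow_mod, h]
  · left; rw [Nat.add_mod, Nat.pow_mod, h]
  · right; rw [Nat.add_mod, Nat.pow_mod, h]
  · right; rw [Nat.add_mod, Nat.pow_mod, h]
  · right; rw [Nat.add_mod, Nat.pow_mod, h]

theorem pow_dvd {q : ℕ} (h : 3 ∣ q) {k : ℕ} (hk : 5 ≤ k) : 3 ^ 5 ∣ q ^ k :=
  (pow_dvd_pow_of_dvd h 5).trans (pow_dvd_pow q hk)

theorem nine_dvd {F : Type} [Field F] [Fintype F] (h : 3 ∣ Fintype.card F) (hne : Fintype.card F ≠ 3) :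
    9 ∣ Fintype.card F := by
  obtain ⟨p, hp⟩ := CharP.exists F
  obtain ⟨n, hpp, hc⟩ := FiniteField.card F p
  rw [hc] at h hne ⊢
  have h3 : 3 = p := (Nat.prime_dvd_prime_iff_eq Nat.prime_three hpp).1 (Nat.prime_three.dvd_of_dvd_pow h)
  subst h3
  have : 2 ≤ (n : ℕ) := by
    have := n.2
    by_contra hlt
    have h1 : (n : ℕ) = 1 := by
      have : 0 < (n : ℕ) := n.2
      omega
    rw [h1] at hne
    exact hne rfl
  exact pow_dvd_pow 3 this

theorem nine_dvd_sq {q : ℕ} (h : 9 ∣ q) : 3 ^ 5 ∣ q ^ 3 := by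
  have h1 : 9 ^ 3 ∣ q ^ 3 := pow_dvd_pow_of_dvd h 3
  exact (by norm_num : 3 ^ 5 ∣ 9 ^ 3).trans h1

theorem psl_kind {S : Type u} [Group S] {F : Type} [Field F] [Fintype F] {n : ℕ} (hn : 2 ≤ n)
    (hn2 : n = 2 → 4 ≤ Fintype.card F) (e : S ≃* Matrix.ProjectiveSpecialLinearGroup (Fin n) F)
    (h27 : 3 ^ 3 ∣ Nat.card S) (h243 : ¬ 3 ^ 5 ∣ Nat.card S) : Kind S := by
  rw [Nat.card_congr e.toEquiv] at h27 h243
  have hq : 1 < Fintype.card F := Fintype.one_lt_card
  have hc := card_psl (F := F) hn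
  rcases Nat.lt_or_ge n 3 with h3 | h3
  · obtain rfl : n = 2 := by omega
    exact .psl2 F inferInstance inferInstance (hn2 rfl) ⟨e⟩
  by_cases hq3 : 3 ∣ Fintype.card F
  · -- characteristic three
    have hg : ¬ 3 ∣ Nat.gcd n (Fintype.card F - 1) := by
      intro h'
      have := h'.trans (Nat.gcd_dvd_right _ _)
      omega
    by_cases h4 : n = 3
    · subst h4
      by_cases hq' : Fintype.card F = 3
      · exact .psl3c F inferInstance inferInstance hq' ⟨e⟩
      · exfalso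
        exact h243 (dvd_of_mul hg hc (Dvd.dvd.mul_right (nine_dvd_sq (nine_dvd hq3 hq')) _))
    · exfalso
      refine h243 (dvd_of_mul hg hc (Dvd.dvd.mul_right (pow_dvd hq3 ?_) _))
      have := (Nat.mul_le_mul (show 4 ≤ n by omega) (Nat.sub_le_sub_right (show 4 ≤ n by omega) 1))
      omega
  set q := Fintype.card F with hqd
  have hsub : ∀ k, k ≤ n - 1 → ∏ j ∈ Finset.range k, (q ^ (j + 2) - 1) ∣
      ∏ j ∈ Finset.range (n - 1), (q ^ (j + 2) - 1) := fun k hk =>
    Finset.prod_dvd_prod_of_subset _ _ _ (Finset.range_subset_range.2 hk)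
  have hq0 : V 0 q := V0 hq3
  by_cases hq1 : q % 3 = 1
  · rcases Nat.lt_or_ge n 5 with h5 | h5
    · rcases (show n = 3 ∨ n = 4 by omega) with h | h
      · subst h
        refine .psl3a F inferInstance inferInstance ?_ ⟨e⟩
        by_contra h9
        have hgcd : Nat.gcd 3 (q - 1) = 3 := Nat.gcd_eq_left (by omega)
        rw [show 3 - 1 = 2 by rfl, Finset.prod_range_succ, Finset.prod_range_succ, Finset.prod_range_zero, one_mul,
          hgcd] at hc
        norm_num only [] at hc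
        have hm : q % 9 = 4 ∨ q % 9 = 7 := by omega
        obtain ⟨k, hk1, hk2⟩ := V.of_mul (i := 1) ⟨1, rfl, by norm_num⟩ hc
          ((hq0.pow 3).mul ((V_sq (by omega)).mul (V_cube hm)))
        exact hk2.not_dvd (k := 3) (by omega) h27
      · subst h
        exact .psl4a F inferInstance inferInstance hq1 ⟨e⟩
    · exfalso
      apply h243
      rcases Nat.lt_or_ge n 6 with h6 | h6
      · obtain rfl : n = 5 := by omega
        have hg : ¬ 3 ∣ Nat.gcd 5 (q - 1) := fun h => by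
          have := h.trans (Nat.gcd_dvd_left 5 (q - 1))
          omega
        refine dvd_of_mul hg hc (Dvd.dvd.mul_left ?_ _)
        rw [show 5 - 1 = 4 by rfl, Finset.prod_range_succ, Finset.prod_range_succ, Finset.prod_range_succ,
          Finset.prod_range_succ, Finset.prod_range_zero, one_mul]
        norm_num only []
        have h5' : 3 ∣ q ^ 5 - 1 := by
          have := Nat.sub_dvd_pow_sub_pow q 1 5
          rw [one_pow] at this
          exact dvd_trans (by omega) this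
        calc 243 ∣ 3 * 9 * 3 * 3 := by norm_num
          _ ∣ _ := mul_dvd_mul (mul_dvd_mul (mul_dvd_mul (three_sq hq3) (nine_cube hq1)) (three_four hq3)) h5'
      · have hg1 : Nat.gcd n (q - 1) ∣ q - 1 := Nat.gcd_dvd_right _ _
        obtain ⟨r, hr⟩ := hsub 5 (by omega)
        rw [hr, Finset.prod_range_succ, Finset.prod_range_succ, Finset.prod_range_succ, Finset.prod_range_succ,
          Finset.prod_range_succ, Finset.prod_range_zero, one_mul] at hc
        norm_num only [] at hc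
        have hd : q - 1 ∣ q ^ 2 - 1 := by
          have := Nat.sub_dvd_pow_sub_pow q 1 2
          simpa only [_root_.one_pow] using this
        obtain ⟨s, hs⟩ := hg1.trans hd
        have hpos : 0 < Nat.gcd n (q - 1) := Nat.gcd_pos_of_pos_left _ (by omega)
        have h4' : Nat.card (Matrix.ProjectiveSpecialLinearGroup (Fin n) F) =
            (q ^ 3 - 1) * (q ^ 4 - 1) * (q ^ 6 - 1) * ((q ^ 5 - 1) * (q ^ (n * (n - 1) / 2) * s * r)) := by
          apply Nat.eq_of_mul_eq_mul_left hpos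
          rw [hc, hs]
          ring
        rw [h4']
        apply Dvd.dvd.mul_right
        calc 3 ^ 5 ∣ 9 * 3 * 9 := by norm_num
          _ ∣ _ := mul_dvd_mul (mul_dvd_mul (nine_cube hq1) (three_four hq3)) (nine_six hq3)
  -- `q ≡ 2 mod 3`
  have hq2 : q % 3 = 2 := by omega
  have hg3 : ¬ 3 ∣ Nat.gcd n (q - 1) := by
    intro h'
    have := h'.trans (Nat.gcd_dvd_right _ _)
    omega
  rcases Nat.lt_or_ge n 4 with h4 | h4
  · obtain rfl : n = 3 := by omega
    refine .psl3b F inferInstance inferInstance ?_ ⟨e⟩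
    rw [show 3 - 1 = 2 by rfl, Finset.prod_range_succ, Finset.prod_range_succ, Finset.prod_range_zero, one_mul] at hc
    norm_num only [] at hc
    have h1 : 3 ^ 3 ∣ q ^ 3 * ((q ^ 2 - 1) * (q ^ 3 - 1)) := by
      rw [← hc]
      exact Dvd.dvd.mul_left h27 _
    have e1 : (q ^ 3 * (q - 1) * (q ^ 3 - 1)) * (q + 1) = q ^ 3 * ((q ^ 2 - 1) * (q ^ 3 - 1)) := by
      have : q ^ 2 - 1 = (q - 1) * (q + 1) := by
        have := Nat.sq_sub_sq q 1
        rw [one_pow] at this
        rw [this, mul_comm]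
      rw [this]
      ring
    have hv : V 0 (q ^ 3 * (q - 1) * (q ^ 3 - 1)) :=
      ((hq0.pow 3).mul (V0 (by omega) : V 0 (q - 1))).mul (V_odd hq2 (by decide))
    have h3' := dvd_of_mul (fun h => hv.not_dvd (k := 1) (by norm_num) (by simpa only [_root_.pow_one] using h)) e1 h1
    exact h3'
  rcases Nat.lt_or_ge n 6 with h6 | h6
  · refine .psl45b F inferInstance inferInstance n (by omega) ?_ ⟨e⟩
    by_contra h9
    have hm : q % 9 = 2 ∨ q % 9 = 5 := by (clear * - hq2 h9; solve | lia | omega)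
    have hp : V 2 (∏ j ∈ Finset.range (n - 1), (q ^ (j + 2) - 1)) := by
      rcases (show n = 4 ∨ n = 5 by omega) with rfl | rfl
      · rw [show 4 - 1 = 3 by rfl, Finset.prod_range_succ, Finset.prod_range_succ, Finset.prod_range_succ,
          Finset.prod_range_zero, one_mul]
        exact ((V_sq (by (clear * - hq2 h9; solve | lia | omega))).mul (V_odd hq2 (by decide))).mul (V_four (by (clear * - hq2 h9; omega)))
      · rw [show 5 - 1 = 4 by rfl, Finset.prod_range_succ, Finset.prod_range_succ, Finset.prod_range_succ,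
          Finset.prod_range_succ, Finset.prod_range_zero, one_mul]
        exact (((V_sq (by (clear * - hq2 h9; omega))).mul (V_odd hq2 (by decide))).mul (V_four (by (clear * - hq2 h9; solve | lia | omega)))).mul (V_odd hq2 (by decide))
    have := ((hq0.pow (n * (n - 1) / 2)).mul hp)
    rw [← hc] at this
    obtain ⟨k, hk1, hk2⟩ := V.of_mul (V0 hg3) rfl this
    exact hk2.not_dvd (k := 3) (by omega) h27
  rcases Nat.lt_or_ge n 8 with h8 | h8
  · exact .psl67 F inferInstance inferInstance n (by omega) hq2 ⟨e⟩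
  · exfalso
    apply h243
    refine dvd_of_mul hg3 hc (Dvd.dvd.mul_left (dvd_trans ?_ (hsub 7 (by omega))) _)
    rw [Finset.prod_range_succ, Finset.prod_range_succ, Finset.prod_range_succ, Finset.prod_range_succ,
      Finset.prod_range_succ, Finset.prod_range_succ, Finset.prod_range_succ, Finset.prod_range_zero, one_mul]
    norm_num only []
    have h88 : 3 ∣ q ^ 8 - 1 := by
      have := Nat.sub_dvd_pow_sub_pow (q ^ 4) 1 2
      rw [one_pow, ← pow_mul] at this
      exact (three_four hq3).trans this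
    calc 243 ∣ 3 * 1 * 3 * 1 * 9 * 1 * 3 := by norm_num
      _ ∣ _ := mul_dvd_mul (mul_dvd_mul (mul_dvd_mul (mul_dvd_mul (mul_dvd_mul (mul_dvd_mul (three_sq hq3)
        (one_dvd _)) (three_four hq3)) (one_dvd _)) (nine_six hq3)) (one_dvd _)) h88

theorem nine_dvd_q {F : Type} [Field F] [Fintype F] {q : ℕ} (hF : Fintype.card F = q ^ 2) (h : 3 ∣ q)
    (hne : q ≠ 3) : 9 ∣ q := by
  obtain ⟨p, hp⟩ := CharP.exists F
  obtain ⟨n, hpp, hc⟩ := FiniteField.card F p
  rw [hc] at hF
  have h3 : 3 = p := (Nat.prime_dvd_prime_iff_eq Nat.prime_three hpp).1 (Nat.prime_three.dvd_of_dvd_pow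
    (show 3 ∣ p ^ (n : ℕ) by rw [hF, pow_two]; exact Dvd.dvd.mul_right h _))
  subst h3
  obtain ⟨m, _, hm⟩ := (Nat.dvd_prime_pow Nat.prime_three).1 (show q ∣ 3 ^ (n : ℕ) by rw [hF, pow_two]; exact Dvd.intro _ rfl)
  rw [hm] at h hne ⊢
  have : 2 ≤ m := by
    by_contra hlt
    rcases (show m = 0 ∨ m = 1 by omega) with rfl | rfl
    · norm_num at h
    · exact hne rfl
  exact pow_dvd_pow 3 this

theorem psu_kind {S : Type u} [Group S] {F : Type} [Field F] [Fintype F] {n q : ℕ} (hF : Fintype.card F = q ^ 2)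
    (hn : 3 ≤ n) (e : S ≃* PSU n F q)
    (h27 : 3 ^ 3 ∣ Nat.card S) (h243 : ¬ 3 ^ 5 ∣ Nat.card S) : Kind S := by
  rw [Nat.card_congr e.toEquiv] at h27 h243
  have hq : 1 < q := by
    have : 1 < Fintype.card F := Fintype.one_lt_card
    rw [hF] at this
    by_contra h
    have h' : q ≤ 1 := by omega
    have := Nat.pow_le_pow_left h' 2
    omega
  have hc := card_psu (F := F) hF (show 2 ≤ n by omega)
  by_cases hq3 : 3 ∣ q
  · have hg : ¬ 3 ∣ Nat.gcd n (q + 1) := by
      intro h'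
      have := h'.trans (Nat.gcd_dvd_right _ _)
      omega
    by_cases h4 : n = 3
    · subst h4
      by_cases hq' : q = 3
      · subst hq'
        exact .psu3c F inferInstance inferInstance hF ⟨e⟩
      · exfalso
        exact h243 (dvd_of_mul hg hc (Dvd.dvd.mul_right (nine_dvd_sq (nine_dvd_q hF hq3 hq')) _))
    · exfalso
      refine h243 (dvd_of_mul hg hc (Dvd.dvd.mul_right (pow_dvd hq3 ?_) _))
      have := (Nat.mul_le_mul (show 4 ≤ n by omega) (Nat.sub_le_sub_right (show 4 ≤ n by omega) 1))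
      omega
  have hq0 : V 0 q := V0 hq3
  have hsub : ∀ k, k ≤ n - 1 → ∏ j ∈ Finset.range k, (if Even j then q ^ (j + 2) - 1 else q ^ (j + 2) + 1) ∣
      ∏ j ∈ Finset.range (n - 1), (if Even j then q ^ (j + 2) - 1 else q ^ (j + 2) + 1) := fun k hk =>
    Finset.prod_dvd_prod_of_subset _ _ _ (Finset.range_subset_range.2 hk)
  have e0 : q ^ 2 - 1 = (q - 1) * (q + 1) := by
    have := Nat.sq_sub_sq q 1
    rw [one_pow] at this
    rw [this, mul_comm]
  by_cases hq1 : q % 3 = 1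
  · have hg3 : ¬ 3 ∣ Nat.gcd n (q + 1) := by
      intro h'
      have := h'.trans (Nat.gcd_dvd_right _ _)
      omega
    rcases Nat.lt_or_ge n 4 with h4 | h4
    · obtain rfl : n = 3 := by omega
      refine .psu3b F inferInstance inferInstance q hF ?_ ⟨e⟩
      rw [show 3 - 1 = 2 by rfl, Finset.prod_range_succ, Finset.prod_range_succ, Finset.prod_range_zero, one_mul,
        if_pos (by decide), if_neg (by decide)] at hc
      norm_num only [] at hc
      have h1 : 3 ^ 3 ∣ q ^ 3 * ((q ^ 2 - 1) * (q ^ 3 + 1)) := by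
        rw [← hc]
        exact Dvd.dvd.mul_left h27 _
      have e1 : (q ^ 3 * (q + 1) * (q ^ 3 + 1)) * (q - 1) = q ^ 3 * ((q ^ 2 - 1) * (q ^ 3 + 1)) := by
        rw [e0]
        ring
      have hv : V 0 (q ^ 3 * (q + 1) * (q ^ 3 + 1)) :=
        ((hq0.pow 3).mul (V0 (by omega) : V 0 (q + 1))).mul (V_odd' hq1)
      exact dvd_of_mul (fun h => hv.not_dvd (k := 1) (by norm_num) (by simpa only [_root_.pow_one] using h)) e1 h1
    rcases Nat.lt_or_ge n 6 with h6 | h6
    · refine .psu45b F inferInstance inferInstance n q (by omega) hF ?_ ⟨e⟩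
      by_contra h9
      have hm : q % 9 = 4 ∨ q % 9 = 7 := by (clear * - hq1 h9; (solve | lia | omega))
      have hp : V 2 (∏ j ∈ Finset.range (n - 1), (if Even j then q ^ (j + 2) - 1 else q ^ (j + 2) + 1)) := by
        rcases (show n = 4 ∨ n = 5 by omega) with rfl | rfl
        · rw [show 4 - 1 = 3 by rfl, Finset.prod_range_succ, Finset.prod_range_succ, Finset.prod_range_succ,
            Finset.prod_range_zero, one_mul, if_pos (by decide), if_neg (by decide), if_pos (by decide)]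
          exact ((V_sq (by (clear * - hm; (solve | lia | omega)))).mul (V_odd' hq1)).mul (V_four (by (clear * - hm; solve | lia | omega)))
        · rw [show 5 - 1 = 4 by rfl, Finset.prod_range_succ, Finset.prod_range_succ, Finset.prod_range_succ,
            Finset.prod_range_succ, Finset.prod_range_zero, one_mul, if_pos (by decide), if_neg (by decide),
            if_pos (by decide), if_neg (by decide)]
          exact (((V_sq (by (clear * - hm; solve | lia | omega))).mul (V_odd' hq1)).mul (V_four (by (clear * - hm; solve | lia | omega)))).mul (V_odd' hq1)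
      have := ((hq0.pow (n * (n - 1) / 2)).mul hp)
      rw [← hc] at this
      obtain ⟨k, hk1, hk2⟩ := V.of_mul (V0 hg3) rfl this
      exact hk2.not_dvd (k := 3) (by omega) h27
    rcases Nat.lt_or_ge n 8 with h8 | h8
    · exact .psu67 F inferInstance inferInstance n q (by omega) hF hq1 ⟨e⟩
    · exfalso
      apply h243
      refine dvd_of_mul hg3 hc (Dvd.dvd.mul_left (dvd_trans ?_ (hsub 7 (by omega))) _)
      rw [Finset.prod_range_succ, Finset.prod_range_succ, Finset.prod_range_succ, Finset.prod_range_succ,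
        Finset.prod_range_succ, Finset.prod_range_succ, Finset.prod_range_succ, Finset.prod_range_zero, one_mul,
        if_pos (by decide), if_neg (by decide), if_pos (by decide), if_neg (by decide), if_pos (by decide),
        if_neg (by decide), if_pos (by decide)]
      norm_num only []
      have h88 : 3 ∣ q ^ 8 - 1 := by
        have := Nat.sub_dvd_pow_sub_pow (q ^ 4) 1 2
        rw [one_pow, ← pow_mul] at this
        exact (three_four hq3).trans this
      calc 243 ∣ 3 * 1 * 3 * 1 * 9 * 1 * 3 := by norm_num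
        _ ∣ _ := mul_dvd_mul (mul_dvd_mul (mul_dvd_mul (mul_dvd_mul (mul_dvd_mul (mul_dvd_mul (three_sq hq3)
          (one_dvd _)) (three_four hq3)) (one_dvd _)) (nine_six hq3)) (one_dvd _)) h88
  -- `q ≡ 2 mod 3`
  have hq2 : q % 3 = 2 := by omega
  rcases Nat.lt_or_ge n 5 with h5 | h5
  · rcases (show n = 3 ∨ n = 4 by omega) with h | h
    · subst h
      refine .psu3a F inferInstance inferInstance q hF ?_ ⟨e⟩
      by_contra h9
      have hgcd : Nat.gcd 3 (q + 1) = 3 := Nat.gcd_eq_left (by omega)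
      rw [show 3 - 1 = 2 by rfl, Finset.prod_range_succ, Finset.prod_range_succ, Finset.prod_range_zero, one_mul,
        if_pos (by decide), if_neg (by decide), hgcd] at hc
      norm_num only [] at hc
      have hm : q % 9 = 2 ∨ q % 9 = 5 := by omega
      obtain ⟨k, hk1, hk2⟩ := V.of_mul (i := 1) ⟨1, rfl, by norm_num⟩ hc
        ((hq0.pow 3).mul ((V_sq (by (clear * - hq2 h9; solve | lia | omega))).mul (V_cube' hm)))
      exact hk2.not_dvd (k := 3) (by omega) h27
    · subst h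
      exact .psu4a F inferInstance inferInstance q hF hq2 ⟨e⟩
  · exfalso
    apply h243
    rcases Nat.lt_or_ge n 6 with h6 | h6
    · obtain rfl : n = 5 := by omega
      have hg : ¬ 3 ∣ Nat.gcd 5 (q + 1) := fun h => by
        have := h.trans (Nat.gcd_dvd_left 5 (q + 1))
        omega
      refine dvd_of_mul hg hc (Dvd.dvd.mul_left ?_ _)
      rw [show 5 - 1 = 4 by rfl, Finset.prod_range_succ, Finset.prod_range_succ, Finset.prod_range_succ,
        Finset.prod_range_succ, Finset.prod_range_zero, one_mul, if_pos (by decide), if_neg (by decide),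
        if_pos (by decide), if_neg (by decide)]
      norm_num only []
      have h5' : 3 ∣ q ^ 5 + 1 := by
        have h1 : q ^ 5 % 3 = 2 := by rw [Nat.pow_mod, hq2]
        omega
      calc 243 ∣ 3 * 9 * 3 * 3 := by norm_num
        _ ∣ _ := mul_dvd_mul (mul_dvd_mul (mul_dvd_mul (three_sq hq3) (nine_cube' hq2)) (three_four hq3)) h5'
    · have hg1 : Nat.gcd n (q + 1) ∣ q + 1 := Nat.gcd_dvd_right _ _
      obtain ⟨r, hr⟩ := hsub 5 (by omega)
      rw [hr, Finset.prod_range_succ, Finset.prod_range_succ, Finset.prod_range_succ, Finset.prod_range_succ,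
        Finset.prod_range_succ, Finset.prod_range_zero, one_mul, if_pos (by decide), if_neg (by decide),
        if_pos (by decide), if_neg (by decide), if_pos (by decide)] at hc
      norm_num only [] at hc
      have hd : q + 1 ∣ q ^ 2 - 1 := by
        rw [e0]
        exact Dvd.intro_left _ rfl
      obtain ⟨s, hs⟩ := hg1.trans hd
      have hpos : 0 < Nat.gcd n (q + 1) := Nat.gcd_pos_of_pos_left _ (by omega)
      have h4' : Nat.card (PSU n F q) =
          (q ^ 3 + 1) * (q ^ 4 - 1) * (q ^ 6 - 1) * ((q ^ 5 + 1) * (q ^ (n * (n - 1) / 2) * s * r)) := by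
        apply Nat.eq_of_mul_eq_mul_left hpos
        rw [hc, hs]
        ring
      rw [h4']
      apply Dvd.dvd.mul_right
      calc 3 ^ 5 ∣ 9 * 3 * 9 := by norm_num
        _ ∣ _ := mul_dvd_mul (mul_dvd_mul (nine_cube' hq2) (three_four hq3)) (nine_six hq3)

theorem psp_kind {S : Type u} [Group S] {F : Type} [Field F] [Fintype F] {m : ℕ} (hm : 2 ≤ m)
    (e : S ≃* PSp m F) (h27 : 3 ^ 3 ∣ Nat.card S) (h243 : ¬ 3 ^ 5 ∣ Nat.card S) : Kind S := by
  rw [Nat.card_congr e.toEquiv] at h27 h243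
  have hq : 1 < Fintype.card F := Fintype.one_lt_card
  have hc := card_psp (F := F) (show 1 ≤ m by omega)
  by_cases hq3 : 3 ∣ Fintype.card F
  · by_cases h2 : m = 2
    · subst h2
      by_cases hq' : Fintype.card F = 3
      · exact .psp4a F inferInstance inferInstance hq' ⟨e⟩
      · exfalso
        refine h243 (dvd_of_mul not_dvd_gcd_two hc (Dvd.dvd.mul_right ?_ _))
        have := nine_dvd_sq (nine_dvd hq3 hq')
        exact this.trans (pow_dvd_pow _ (by norm_num))
    · exfalso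
      refine h243 (dvd_of_mul not_dvd_gcd_two hc (Dvd.dvd.mul_right (pow_dvd hq3 ?_) _))
      nlinarith only [show 3 ≤ m by omega]
  have hsub : ∀ k, k ≤ m → ∏ i ∈ Finset.range k, (Fintype.card F ^ (2 * (i + 1)) - 1) ∣
      ∏ i ∈ Finset.range m, (Fintype.card F ^ (2 * (i + 1)) - 1) := fun k hk =>
    Finset.prod_dvd_prod_of_subset _ _ _ (Finset.range_subset_range.2 hk)
  set q := Fintype.card F with hqd
  rcases Nat.lt_or_ge m 3 with h3 | h3
  · obtain rfl : m = 2 := by omega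
    refine .psp4b F inferInstance inferInstance ?_ ⟨e⟩
    by_contra h9
    have hm : q % 9 = 2 ∨ q % 9 = 5 ∨ q % 9 = 4 ∨ q % 9 = 7 := by
      by_contra hno
      have : q % 9 = 1 ∨ q % 9 = 8 := by omega
      apply h9
      apply Nat.dvd_of_mod_eq_zero
      rcases this with h | h
      · rw [vsub (by omega) 9 (r := 1) (by rw [Nat.pow_mod, h]) (by norm_num) (by norm_num)]
      · rw [vsub (by omega) 9 (r := 1) (by rw [Nat.pow_mod, h]) (by norm_num) (by norm_num)]
    rw [Finset.prod_range_succ, Finset.prod_range_succ, Finset.prod_range_zero, one_mul] at hc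
    norm_num only [] at hc
    have := ((V0 hq3).pow 4).mul ((V_sq hm).mul (V_four hm))
    rw [← hc] at this
    obtain ⟨k, hk1, hk2⟩ := V.of_mul (V0 not_dvd_gcd_two) rfl this
    exact hk2.not_dvd (k := 3) (by omega) h27
  rcases Nat.lt_or_ge m 4 with h4 | h4
  · obtain rfl : m = 3 := by omega
    exact .psp6 F inferInstance inferInstance hq3 ⟨e⟩
  · exfalso
    apply h243
    refine dvd_of_mul not_dvd_gcd_two hc (Dvd.dvd.mul_left (dvd_trans ?_ (hsub 4 (by omega))) _)
    rw [Finset.prod_range_succ, Finset.prod_range_succ, Finset.prod_range_succ, Finset.prod_range_succ,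
      Finset.prod_range_zero, one_mul]
    norm_num only []
    have h88 : 3 ∣ q ^ 8 - 1 := by
      have := Nat.sub_dvd_pow_sub_pow (q ^ 4) 1 2
      rw [one_pow, ← pow_mul] at this
      exact (three_four hq3).trans this
    calc 243 ∣ 3 * 3 * 9 * 3 := by norm_num
      _ ∣ _ := mul_dvd_mul (mul_dvd_mul (mul_dvd_mul (three_sq hq3) (three_four hq3)) (nine_six hq3)) h88

/-- the product `(q²-1)(q⁴-1)(q⁶-1)` inside a longer one -/
theorem prod3 {q m : ℕ} (h : ¬ 3 ∣ q) (hm : 3 ≤ m) :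
    81 ∣ ∏ i ∈ Finset.range m, (q ^ (2 * (i + 1)) - 1) := by
  have h1 : ∏ i ∈ Finset.range 3, (q ^ (2 * (i + 1)) - 1) ∣ ∏ i ∈ Finset.range m, (q ^ (2 * (i + 1)) - 1) :=
    Finset.prod_dvd_prod_of_subset _ _ _ (Finset.range_subset_range.2 hm)
  refine dvd_trans ?_ h1
  rw [Finset.prod_range_succ, Finset.prod_range_succ, Finset.prod_range_succ, Finset.prod_range_zero, one_mul]
  norm_num only []
  calc 81 ∣ 3 * 3 * 9 := by norm_num
    _ ∣ _ := mul_dvd_mul (mul_dvd_mul (three_sq h) (three_four h)) (nine_six h)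

theorem prod4 {q m : ℕ} (h : ¬ 3 ∣ q) (hm : 4 ≤ m) :
    3 ^ 5 ∣ ∏ i ∈ Finset.range m, (q ^ (2 * (i + 1)) - 1) := by
  have h1 : ∏ i ∈ Finset.range 4, (q ^ (2 * (i + 1)) - 1) ∣ ∏ i ∈ Finset.range m, (q ^ (2 * (i + 1)) - 1) :=
    Finset.prod_dvd_prod_of_subset _ _ _ (Finset.range_subset_range.2 hm)
  refine dvd_trans ?_ h1
  rw [Finset.prod_range_succ, Finset.prod_range_succ, Finset.prod_range_succ, Finset.prod_range_succ,
    Finset.prod_range_zero, one_mul]
  norm_num only []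
  have h88 : 3 ∣ q ^ 8 - 1 := by
    have := Nat.sub_dvd_pow_sub_pow (q ^ 4) 1 2
    rw [one_pow, ← pow_mul] at this
    exact (three_four h).trans this
  calc 243 ∣ 3 * 3 * 9 * 3 := by norm_num
    _ ∣ _ := mul_dvd_mul (mul_dvd_mul (mul_dvd_mul (three_sq h) (three_four h)) (nine_six h)) h88

theorem oodd_kind {S : Type u} [Group S] {F : Type} [Field F] [Fintype F] {m : ℕ} (hm : 3 ≤ m)
    (ho : Odd (Fintype.card F)) (e : S ≃* POmega F (quadFormOdd m F)) (h243 : ¬ 3 ^ 5 ∣ Nat.card S) : Kind S := by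
  rw [Nat.card_congr e.toEquiv] at h243
  have hc := S0292.result (F := F) rfl ho m hm
  by_cases hq3 : 3 ∣ Fintype.card F
  · exfalso
    exact h243 (dvd_of_mul (by norm_num) hc (Dvd.dvd.mul_right (pow_dvd hq3 (by nlinarith only [hm])) _))
  · rcases Nat.lt_or_ge m 4 with h4 | h4
    · obtain rfl : m = 3 := by omega
      exact .oodd F inferInstance inferInstance hq3 ho ⟨e⟩
    · exfalso
      exact h243 (dvd_of_mul (by norm_num) hc (Dvd.dvd.mul_left (prod4 hq3 h4) _))

theorem oplus_false {S : Type u} [Group S] {F : Type} [Field F] [Fintype F] {m : ℕ} (hm : 4 ≤ m)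
    (e : S ≃* POmega F (quadFormPlus m F)) : 3 ^ 5 ∣ Nat.card S := by
  rw [Nat.card_congr e.toEquiv]
  have hc := S0293.result (F := F) rfl m hm
  by_cases hq3 : 3 ∣ Fintype.card F
  · refine dvd_of_mul not_dvd_gcd_four hc (Dvd.dvd.mul_right (Dvd.dvd.mul_right (pow_dvd hq3 ?_) _) _)
    have := (Nat.mul_le_mul hm (Nat.sub_le_sub_right hm 1))
    omega
  · rcases Nat.lt_or_ge m 5 with h5 | h5
    · obtain rfl : m = 4 := by omega
      refine dvd_of_mul not_dvd_gcd_four hc ?_
      calc 3 ^ 5 ∣ 1 * 3 * 81 := by norm_num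
        _ ∣ _ := mul_dvd_mul (mul_dvd_mul (one_dvd _) (three_four hq3)) (prod3 hq3 (by norm_num))
    · exact dvd_of_mul not_dvd_gcd_four hc (Dvd.dvd.mul_left (prod4 hq3 (by omega)) _)

theorem ominus_kind {S : Type u} [Group S] {F : Type} [Field F] [Fintype F] {m : ℕ} (hm : 4 ≤ m) {a b : F}
    (hab : ∀ z₁ z₂ : F, z₁ ^ 2 + a * z₁ * z₂ + b * z₂ ^ 2 = 0 → z₁ = 0 ∧ z₂ = 0)
    (e : S ≃* POmega F (quadFormMinus (m - 1) F a b)) (h243 : ¬ 3 ^ 5 ∣ Nat.card S) : Kind S := by
  rw [Nat.card_congr e.toEquiv] at h243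
  have hc := S0294.result (F := F) rfl m hm a b hab
  by_cases hq3 : 3 ∣ Fintype.card F
  · exfalso
    refine h243 (dvd_of_mul not_dvd_gcd_four hc (Dvd.dvd.mul_right (Dvd.dvd.mul_right (pow_dvd hq3 ?_) _) _))
    have := (Nat.mul_le_mul hm (Nat.sub_le_sub_right hm 1))
    omega
  · rcases Nat.lt_or_ge m 5 with h5 | h5
    · obtain rfl : m = 4 := by omega
      exact .ominus F inferInstance inferInstance a b hq3 hab ⟨e⟩
    · exfalso
      exact h243 (dvd_of_mul not_dvd_gcd_four hc (Dvd.dvd.mul_left (prod4 hq3 (by omega)) _))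

theorem twelve {q : ℕ} (h : ¬ 3 ∣ q) : 9 ∣ q ^ 12 - 1 := by
  have h1 : q ^ 6 - 1 ∣ (q ^ 6) ^ 2 - 1 := by
    have := Nat.sub_dvd_pow_sub_pow (q ^ 6) 1 2
    simpa only [_root_.one_pow] using this
  rw [← pow_mul] at h1
  exact (nine_six h).trans h1

theorem eight {q : ℕ} (h : ¬ 3 ∣ q) : 3 ∣ q ^ 8 - 1 := by
  have := Nat.sub_dvd_pow_sub_pow (q ^ 4) 1 2
  rw [one_pow, ← pow_mul] at this
  exact (three_four h).trans this

/-- the exceptional groups -/
theorem exc_kind (T : OrderTable.{u}) {S : Type u} [Group S] (h : IsExceptionalLieType S)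
    (h27 : 3 ^ 3 ∣ Nat.card S) (h243 : ¬ 3 ^ 5 ∣ Nat.card S) : Kind S := by
  rcases h with h | h | h | h | h | h | h | h | h | h | h
  · obtain ⟨F, i1, i2, hq, ⟨e⟩⟩ := h
    have h243' := h243
    rw [Nat.card_congr e.toEquiv, T.g2 F] at h243
    have hq3 : ¬ 3 ∣ Fintype.card F := fun hq3 =>
      h243 (Dvd.dvd.mul_right (Dvd.dvd.mul_right (pow_dvd hq3 (by norm_num)) _) _)
    refine .g2 F i1 i2 hq hq3 (fun h9 => h243 ?_) ⟨e⟩
    rw [mul_assoc]
    apply Dvd.dvd.mul_left
    have h27' : 27 ∣ Fintype.card F ^ 6 - 1 := by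
      have e1 : Fintype.card F ^ 2 % 9 = 1 := by
        have : 1 ≤ Fintype.card F ^ 2 := Nat.one_le_pow _ _ Fintype.card_pos
        omega
      have e2 : Fintype.card F ^ 2 % 27 = 1 ∨ Fintype.card F ^ 2 % 27 = 10 ∨ Fintype.card F ^ 2 % 27 = 19 := by omega
      have e3 : Fintype.card F ^ 6 % 27 = 1 := by
        rw [show Fintype.card F ^ 6 = (Fintype.card F ^ 2) ^ 3 by ring]
        rcases e2 with e2 | e2 | e2 <;> rw [Nat.pow_mod, e2]
      omega
    calc 3 ^ 5 ∣ 9 * 27 := by norm_num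
      _ ∣ _ := mul_dvd_mul h9 h27'
  · exfalso
    apply h243
    obtain ⟨F, _, _, ⟨e⟩⟩ := h
    rw [Nat.card_congr e.toEquiv, T.f4 F _ rfl]
    by_cases hq3 : 3 ∣ Fintype.card F
    · iterate 4 apply Dvd.dvd.mul_right
      exact pow_dvd hq3 (by norm_num)
    · calc 3 ^ 5 ∣ 1 * 3 * 9 * 3 * 9 := by norm_num
        _ ∣ _ := mul_dvd_mul (mul_dvd_mul (mul_dvd_mul (mul_dvd_mul (one_dvd _) (three_sq hq3)) (nine_six hq3))
          (eight hq3)) (twelve hq3)
  · exfalso
    apply h243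
    obtain ⟨F, _, _, ⟨e⟩⟩ := h
    rw [Nat.card_congr e.toEquiv]
    have hc := T.e6 F _ rfl
    set q := Fintype.card F with hqd
    by_cases hq3 : 3 ∣ q
    · have hq1 : 1 < q := Fintype.one_lt_card
      have hg : ¬ 3 ∣ Nat.gcd 3 (q - 1) := by
        intro h'
        have := h'.trans (Nat.gcd_dvd_right _ _)
        omega
      refine dvd_of_mul hg hc ?_
      iterate 6 apply Dvd.dvd.mul_right
      exact pow_dvd hq3 (by norm_num)
    · have h1 : 3 * 3 ^ 5 ∣ q ^ 36 * (q ^ 2 - 1) * (q ^ 5 - 1) * (q ^ 6 - 1) * (q ^ 8 - 1) * (q ^ 9 - 1) *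
          (q ^ 12 - 1) := by
        calc 3 * 3 ^ 5 ∣ 1 * 3 * 1 * 9 * 3 * 1 * 9 := by norm_num
          _ ∣ _ := mul_dvd_mul (mul_dvd_mul (mul_dvd_mul (mul_dvd_mul (mul_dvd_mul (mul_dvd_mul (one_dvd _)
            (three_sq hq3)) (one_dvd _)) (nine_six hq3)) (eight hq3)) (one_dvd _)) (twelve hq3)
      rw [← hc] at h1
      rcases (Nat.dvd_prime Nat.prime_three).1 (Nat.gcd_dvd_left 3 (q - 1)) with hg | hg
      · rw [hg, one_mul] at h1
        exact (by norm_num : 3 ^ 5 ∣ 3 * 3 ^ 5).trans h1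
      · rw [hg] at h1
        exact Nat.dvd_of_mul_dvd_mul_left (by norm_num) h1
  · exfalso
    apply h243
    obtain ⟨F, _, _, ⟨e⟩⟩ := h
    rw [Nat.card_congr e.toEquiv]
    have hc := T.e7 F _ rfl
    refine dvd_of_mul not_dvd_gcd_two hc ?_
    by_cases hq3 : 3 ∣ Fintype.card F
    · iterate 7 apply Dvd.dvd.mul_right
      exact pow_dvd hq3 (by norm_num)
    · calc 3 ^ 5 ∣ 1 * 3 * 9 * 3 * 1 * 9 * 1 * 1 := by norm_num
        _ ∣ _ := mul_dvd_mul (mul_dvd_mul (mul_dvd_mul (mul_dvd_mul (mul_dvd_mul (mul_dvd_mul (mul_dvd_mul (one_dvd _)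
          (three_sq hq3)) (nine_six hq3)) (eight hq3)) (one_dvd _)) (twelve hq3)) (one_dvd _)) (one_dvd _)
  · exfalso
    apply h243
    obtain ⟨F, _, _, ⟨e⟩⟩ := h
    rw [Nat.card_congr e.toEquiv, T.e8 F _ rfl]
    set q := Fintype.card F with hqd
    by_cases hq3 : 3 ∣ q
    · iterate 8 apply Dvd.dvd.mul_right
      exact pow_dvd hq3 (by norm_num)
    · have h24 : 9 ∣ q ^ 24 - 1 := by
        have h1 : q ^ 12 - 1 ∣ (q ^ 12) ^ 2 - 1 := by
          have := Nat.sub_dvd_pow_sub_pow (q ^ 12) 1 2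
          simpa only [_root_.one_pow] using this
        rw [← pow_mul] at h1
        exact (twelve hq3).trans h1
      calc 3 ^ 5 ∣ 1 * 3 * 3 * 9 * 1 * 1 * 1 * 9 * 1 := by norm_num
        _ ∣ _ := mul_dvd_mul (mul_dvd_mul (mul_dvd_mul (mul_dvd_mul (mul_dvd_mul (mul_dvd_mul (mul_dvd_mul
          (mul_dvd_mul (one_dvd _) (three_sq hq3)) (eight hq3)) (twelve hq3)) (one_dvd _)) (one_dvd _)) (one_dvd _))
          h24) (one_dvd _)
  · exfalso
    apply h243
    obtain ⟨F, _, _, q, hq, hF, ⟨e⟩⟩ := h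
    rw [Nat.card_congr e.toEquiv]
    have hc := T.te6 F q hq hF
    by_cases hq3 : 3 ∣ q
    · have hg : ¬ 3 ∣ Nat.gcd 3 (q + 1) := by
        intro h'
        have := h'.trans (Nat.gcd_dvd_right _ _)
        omega
      refine dvd_of_mul hg hc ?_
      iterate 6 apply Dvd.dvd.mul_right
      exact pow_dvd hq3 (by norm_num)
    · have h1 : 3 * 3 ^ 5 ∣ q ^ 36 * (q ^ 2 - 1) * (q ^ 5 + 1) * (q ^ 6 - 1) * (q ^ 8 - 1) * (q ^ 9 + 1) *
          (q ^ 12 - 1) := by
        calc 3 * 3 ^ 5 ∣ 1 * 3 * 1 * 9 * 3 * 1 * 9 := by norm_num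
          _ ∣ _ := mul_dvd_mul (mul_dvd_mul (mul_dvd_mul (mul_dvd_mul (mul_dvd_mul (mul_dvd_mul (one_dvd _)
            (three_sq hq3)) (one_dvd _)) (nine_six hq3)) (eight hq3)) (one_dvd _)) (twelve hq3)
      rw [← hc] at h1
      rcases (Nat.dvd_prime Nat.prime_three).1 (Nat.gcd_dvd_left 3 (q + 1)) with hg | hg
      · rw [hg, one_mul] at h1
        exact (by norm_num : 3 ^ 5 ∣ 3 * 3 ^ 5).trans h1
      · rw [hg] at h1
        exact Nat.dvd_of_mul_dvd_mul_left (by norm_num) h1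
  · obtain ⟨F, i1, i2, q, hq, hF, ⟨e⟩⟩ := h
    rw [Nat.card_congr e.toEquiv, T.td4 F q hq hF] at h243
    refine .td4 F i1 i2 q hq hF (fun hq3 => h243 ?_) ⟨e⟩
    iterate 3 apply Dvd.dvd.mul_right
    exact pow_dvd hq3 (by norm_num)
  · exfalso
    obtain ⟨F, _, _, m, hm, hF, ⟨e⟩⟩ := h
    have h3 : 3 ∣ Nat.card S := (by norm_num : 3 ∣ 3 ^ 3).trans h27
    rw [Nat.card_congr e.toEquiv, T.sz F m hm hF] at h3
    have hm3 := two_pow_mod m
    set q := 2 ^ (2 * m + 1) with hqd
    have h4 : q ^ 2 % 3 = 1 := by rw [Nat.pow_mod, hm3]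
    rcases (Nat.Prime.dvd_mul Nat.prime_three).1 h3 with h5 | h5
    · rcases (Nat.Prime.dvd_mul Nat.prime_three).1 h5 with h6 | h6
      · omega
      · omega
    · omega
  · exfalso
    apply h243
    obtain ⟨F, _, _, m, hm, hF, ⟨e⟩⟩ := h
    rw [Nat.card_congr e.toEquiv, T.ree F m hm hF]
    apply Dvd.dvd.mul_right
    apply Dvd.dvd.mul_right
    rw [← pow_mul]
    exact pow_dvd_pow 3 (by omega)
  · obtain ⟨F, i1, i2, m, hm, hF, ⟨e⟩⟩ := h
    rw [Nat.card_congr e.toEquiv, T.tf4 F m hm hF] at h243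
    have hm3 := two_pow_mod m
    refine .tf4 F i1 i2 m hm hF (fun h9 => h243 ?_) ⟨e⟩
    set q := 2 ^ (2 * m + 1) with hqd
    apply Dvd.dvd.mul_right
    rw [mul_assoc]
    apply Dvd.dvd.mul_left
    have h27' : 27 ∣ q ^ 3 + 1 := by
      have : q % 27 = 8 ∨ q % 27 = 17 ∨ q % 27 = 26 := by (clear * - h9; (solve | lia | omega))
      apply Nat.dvd_of_mod_eq_zero
      rw [Nat.add_mod, Nat.pow_mod]
      rcases this with h2 | h2 | h2 <;> rw [h2]
    have h9' : 9 ∣ q ^ 4 - 1 := by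
      have h1 : 1 ≤ q ^ 4 := Nat.one_le_pow _ _ (by positivity)
      apply (Nat.modEq_iff_dvd' h1).1
      change 1 % 9 = q ^ 4 % 9
      rw [Nat.pow_mod, show q % 9 = 8 by (clear * - h9; omega)]
    calc 3 ^ 5 ∣ 27 * 9 := by norm_num
      _ ∣ _ := mul_dvd_mul h27' h9'
  · exact .tits h

theorem alt_kind {S : Type u} [Group S] {n : ℕ} (hn : 5 ≤ n) (e : S ≃* ↥(alternatingGroup (Fin n)))
    (h27 : 3 ^ 3 ∣ Nat.card S) (h243 : ¬ 3 ^ 5 ∣ Nat.card S) : Kind S := by
  have h1 := alt_card hn e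
  rcases Nat.lt_or_ge n 12 with h | h
  · refine .alt n ?_ (by omega) ⟨e⟩
    by_contra hlt
    have h2 : 3 ^ 3 ∣ n.factorial := h27.trans (h1 ▸ Dvd.intro_left _ rfl)
    have : n = 5 ∨ n = 6 ∨ n = 7 ∨ n = 8 := by omega
    rcases this with rfl | rfl | rfl | rfl <;> revert h2 <;> decide
  · exfalso
    apply h243
    refine dvd_of_mul (d := 2) (by norm_num) h1.symm ?_
    exact dvd_trans (by decide) (Nat.factorial_dvd_factorial h)

/-- **The known simple groups of order divisible by 27 but not by 243.** -/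
theorem kind_of_known (T : OrderTable.{u}) {S : Type u} [Group S] (h : IsKnownSimple' S)
    (hna : ¬ ∀ a b : S, a * b = b * a) (h27 : 3 ^ 3 ∣ Nat.card S) (h243 : ¬ 3 ^ 5 ∣ Nat.card S) : Kind S := by
  have key : ∀ (x : Grp × ℕ), x ∈ spor → (x.2 % 27 ≠ 0 ∨ x.2 % 243 = 0) → Real x.1 S → Kind S := fun x hx h0 hr => by
    exfalso
    have hc := T.spor S x hx hr
    rcases h0 with h0 | h0
    · apply h0
      rw [hc] at h27
      exact Nat.mod_eq_zero_of_dvd h27
    · apply h243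
      rw [hc]
      exact Nat.dvd_of_mod_eq_zero h0
  rcases h with h | h | h | h | h | h | h | h | h | h
  · exfalso
    have : Fact (Nat.card S).Prime := ⟨h⟩
    have : IsCyclic S := isCyclic_of_prime_card (p := Nat.card S) rfl
    exact hna fun a b => (IsCyclic.isMulCommutative (α := S)).is_comm.comm a b
  · obtain ⟨n, hn, ⟨e⟩⟩ := h
    exact alt_kind hn e h27 h243
  · obtain ⟨F, _, _, n, hn, hn2, ⟨e⟩⟩ := h
    exact psl_kind hn hn2 e h27 h243
  · obtain ⟨F, _, _, n, hn, hn2, ⟨e⟩⟩ := h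
    exact psp_kind hn e h27 h243
  · obtain ⟨F, _, _, n, q, hF, hn, hn2, ⟨e⟩⟩ := h
    exact psu_kind hF hn e h27 h243
  · obtain ⟨F, _, _, n, hn, ho, ⟨e⟩⟩ := h
    exact oodd_kind hn ho e h243
  · obtain ⟨F, _, _, n, hn, ⟨e⟩⟩ := h
    exact absurd (oplus_false hn e) h243
  · obtain ⟨F, _, _, n, a, b, hn, hab, ⟨e⟩⟩ := h
    exact ominus_kind hn hab e h243
  · exact exc_kind T h h27 h243
  · rcases h with h | h | h | h | h | h | h | h | h | h | h | h | h | h | h | h | h | h | h | h | h | h | h | h | h | h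
    · exact key (.m11, 7920) (by decide) (by norm_num) h
    · exact .m12 h
    · exact key (.m22, 443520) (by decide) (by norm_num) h
    · exact key (.m23, 10200960) (by decide) (by norm_num) h
    · exact .m24 h
    · exact key (.j1, 175560) (by decide) (by norm_num) h
    · exact .j2 h
    · exact key (.j3, 50232960) (by decide) (by norm_num) h
    · exact .j4 h
    · exact key (.co1, 4157776806543360000) (by decide) (by norm_num) h
    · exact key (.co2, 42305421312000) (by decide) (by norm_num) h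
    · exact key (.co3, 495766656000) (by decide) (by norm_num) h
    · exact key (.mcl, 898128000) (by decide) (by norm_num) h
    · exact key (.hs, 44352000) (by decide) (by norm_num) h
    · exact key (.suz, 448345497600) (by decide) (by norm_num) h
    · exact .he h
    · exact .ru h
    · exact .on h
    · exact key (.ly, 51765179004000000) (by decide) (by norm_num) h
    · exact key (.fi22, 64561751654400) (by decide) (by norm_num) h
    · exact key (.fi23, 4089470473293004800) (by decide) (by norm_num) h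
    · exact key (.fi24, 1255205709190661721292800) (by decide) (by norm_num) h
    · exact key (.hn, 273030912000000) (by decide) (by norm_num) h
    · exact key (.th, 90745943887872000) (by decide) (by norm_num) h
    · exact key (.b, 4154781481226426191177580544000000) (by decide) (by norm_num) h
    · exact key (.m, 808017424794512875886459904961710757005754368000000000) (by decide) (by norm_num) h

end Cfsg.Agent.H344.List81
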